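import Groth.Prelude.Def_RelSpec2
import Groth.Agent.Lib.ModM1.PullSpec
import Groth.Agent.Lib.ModM1.Stalk

/-! `tilde` on sections and semilinear maps between modules on affine schemes. -/

set_option autoImplicit false
set_option linter.style.haveILetI false
set_option linter.unusedSectionVars false
set_option backward.isDefEq.respectTransparency false
set_option backward.isDefEq.respectTransparency.types false

universe u

open CategoryTheory CategoryTheory.Limits AlgebraicGeometry TopologicalSpace Opposite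

noncomputable section

namespace Groth.Agent.DirImgEss3

open Groth.Agent.M1

variable {R R' : CommRingCat.{u}}

/-- The section of `tilde` given by an element of the module. -/
def sec (M : ModuleCat.{u} R) (V : (Spec R).Opens) : M →ₗ[R] Γ(tilde M, V) := (tilde.toOpen M V).hom

theorem mres_sec (M : ModuleCat.{u} R) {V V' : (Spec R).Opens} (h : V' ≤ V) (m : M) :
    mres (tilde M) h (sec M V m) = sec M V' m :=
  ConcreteCategory.congr_hom (tilde.toOpen_res M V V' (homOfLE h)) m

theorem sec_bo_exists (M : ModuleCat.{u} R) (g : R) (t : Γ(tilde M, bo g)) :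
    ∃ (k : ℕ) (m : M), sec M (bo g) m = g ^ k • t := by
  obtain ⟨⟨m, ⟨_, k, rfl⟩⟩, h⟩ := IsLocalizedModule.surj (Submonoid.powers g)
    (tilde.toOpen M (PrimeSpectrum.basicOpen g)).hom t
  exact ⟨k, m, h.symm⟩

theorem sec_bo_eq_zero (M : ModuleCat.{u} R) (g : R) (m : M) (h : sec M (bo g) m = 0) :
    ∃ k : ℕ, g ^ k • m = 0 := by
  obtain ⟨⟨_, k, rfl⟩, hk⟩ := (IsLocalizedModule.eq_zero_iff (Submonoid.powers g)
    (tilde.toOpen M (PrimeSpectrum.basicOpen g)).hom).1 h
  exact ⟨k, hk⟩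

theorem pow_smul_inj (M : ModuleCat.{u} R) (g : R) (k : ℕ) {t t' : Γ(tilde M, bo g)}
    (h : g ^ k • t = g ^ k • t') : t = t' :=
  IsLocalizedModule.smul_injective (tilde.toOpen M (PrimeSpectrum.basicOpen g)).hom
    (⟨g ^ k, k, rfl⟩ : Submonoid.powers g) h

theorem exists_basic_le {V : (Spec R).Opens} {x : PrimeSpectrum R} (hx : x ∈ V) :
    ∃ g : R, x ∈ bo g ∧ bo g ≤ V := by
  obtain ⟨_, ⟨g, rfl⟩, h1, h2⟩ := Opens.isBasis_iff_nbhd.1 (isBasis_bo (R := R)) hx
  exact ⟨g, h1, h2⟩

/-- A map of modules bijective on the small basic opens is bijective. -/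
theorem bijective_app_of_basic {M N : (Spec R).Modules} (φ : M ⟶ N) {V : (Spec R).Opens}
    (h : ∀ g : R, bo g ≤ V → Function.Bijective (φ.app (bo g))) : Function.Bijective (φ.app V) := by
  let I := {g : R // bo g ≤ V}
  have hc : V ≤ ⨆ i : I, bo i.1 := fun x hx => by
    obtain ⟨g, h1, h2⟩ := exists_basic_le hx
    exact Opens.mem_iSup.2 ⟨⟨g, h2⟩, h1⟩
  refine ⟨fun a b e => TopCat.Sheaf.eq_of_locally_eq' ⟨M.presheaf, M.isSheaf⟩ (fun i : I => bo i.1) V
    (fun i => homOfLE i.2) hc a b fun i => ?_, fun b => ?_⟩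
  · refine (h i.1 i.2).1 ?_
    show φ.app _ (mres M _ a) = φ.app _ (mres M _ b)
    rw [app_mres, app_mres, e]
  · choose m hm using fun i : I => (h i.1 i.2).2 (mres N i.2 b)
    obtain ⟨t, ht, -⟩ := TopCat.Sheaf.existsUnique_gluing' ⟨M.presheaf, M.isSheaf⟩ (fun i : I => bo i.1) V
      (fun i => homOfLE i.2) hc m fun i j => by
        show mres M (inf_le_left : bo i.1 ⊓ bo j.1 ≤ bo i.1) (m i) = mres M inf_le_right (m j)
        have e : bo (i.1 * j.1) = bo i.1 ⊓ bo j.1 := bo_mul i.1 j.1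
        have key := fun (a b : Γ(M, bo (i.1 * j.1))) => (h (i.1 * j.1)
          (e.le.trans (inf_le_left.trans i.2))).1 (a₁ := a) (a₂ := b)
        have back : ∀ t : Γ(M, bo i.1 ⊓ bo j.1), t = mres M e.ge (mres M e.le t) := fun t => by
          rw [mres_mres, mres_id]
        rw [back (mres M inf_le_left (m i)), back (mres M inf_le_right (m j))]
        refine congrArg _ (key _ _ ?_)
        simp only [app_mres, hm, mres_mres]
    refine ⟨t, TopCat.Sheaf.eq_of_locally_eq' ⟨N.presheaf, N.isSheaf⟩ (fun i : I => bo i.1) V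
      (fun i => homOfLE i.2) hc _ _ fun i => ?_⟩
    show mres N _ (φ.app V t) = mres N _ b
    rw [← app_mres, show mres M i.2 t = m i from ht i, hm]

/-- Maps agreeing on the sections of the module agree. -/
theorem app_eq_of_sec {M : ModuleCat.{u} R} {N : (Spec R).Modules} {φ ψ : tilde M ⟶ N}
    (h : ∀ m : M, φ.app ⊤ (sec M ⊤ m) = ψ.app ⊤ (sec M ⊤ m)) : φ = ψ := by
  apply (tilde.adjunction.homEquiv _ _).injective
  ext m
  exact h m

variable (φ : R ⟶ R') {M : ModuleCat.{u} R} {M' : ModuleCat.{u} R'} (l : M →+ M')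
  (hl : ∀ (a : R) (m : M), l (a • m) = φ.hom a • l m)

/-- The map of `tilde`s induced by a semilinear map. -/
def semi : tilde M ⟶ (Scheme.Modules.pushforward (Spec.map φ)).obj (tilde M') :=
  (tilde.adjunction.homEquiv _ _).symm
    (ModuleCat.ofHom (Y := (ModuleCat.restrictScalars φ.hom).obj M')
      { toFun := l, map_add' := map_add l, map_smul' := hl } ≫
      (ModuleCat.restrictScalars φ.hom).map (tilde.adjunction.unit.app M') ≫
      (pushΓIso φ).inv.app (tilde M'))

theorem semi_sec_top (m : M) : (semi φ l hl).app ⊤ (sec M ⊤ m) = sec M' (Spec.map φ ⁻¹ᵁ ⊤) (l m) := by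
  have h := ConcreteCategory.congr_hom
    ((tilde.adjunction.homEquiv M ((Scheme.Modules.pushforward (Spec.map φ)).obj (tilde M'))).apply_symm_apply
      (ModuleCat.ofHom (Y := (ModuleCat.restrictScalars φ.hom).obj M')
        { toFun := l, map_add' := map_add l, map_smul' := hl } ≫
        (ModuleCat.restrictScalars φ.hom).map (tilde.adjunction.unit.app M') ≫
        (pushΓIso φ).inv.app (tilde M'))) m
  exact h

theorem semi_sec (V : (Spec R).Opens) (m : M) :
    (semi φ l hl).app V (sec M V m) = sec M' (Spec.map φ ⁻¹ᵁ V) (l m) := by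
  rw [← mres_sec M le_top m, app_mres, semi_sec_top]
  exact mres_sec M' ((Spec.map φ).preimage_mono le_top) (l m)

theorem preimage_bo (g : R) : Spec.map φ ⁻¹ᵁ bo g = bo (φ.hom g) := rfl

theorem ΓSpec_res (φ : R ⟶ R') (V : (Spec R).Opens) :
    (Scheme.ΓSpecIso R).inv ≫ (Spec R).presheaf.map V.leTop.op ≫ (Spec.map φ).app V =
      φ ≫ (Scheme.ΓSpecIso R').inv ≫ (Spec R').presheaf.map ((Spec.map φ) ⁻¹ᵁ V).leTop.op := by
  rw [(Spec.map φ).naturality, ← Category.assoc, ← Category.assoc φ, Scheme.ΓSpecIso_inv_naturality φ,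
    Category.assoc]
  rfl

/-- The map on the sections over a basic open. -/
def semiBo (g : R) : Γ(tilde M, bo g) →+ Γ(tilde M', bo (φ.hom g)) := ((semi φ l hl).app (bo g)).hom

theorem semiBo_sec (g : R) (m : M) : semiBo φ l hl g (sec M (bo g) m) = sec M' (bo (φ.hom g)) (l m) :=
  semi_sec φ l hl (bo g) m

theorem semiBo_smul (g c : R) (t : Γ(tilde M, bo g)) :
    semiBo φ l hl g (c • t) = φ.hom c • semiBo φ l hl g t := by
  refine ((congrArg (fun z => (semi φ l hl).app (bo g) z) (Scheme.Modules.smul_Spec_def (M := tilde M) c t)).trans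
    (Scheme.Modules.Hom.app_smul ..)).trans ?_
  refine Eq.trans ?_ (Scheme.Modules.smul_Spec_def (M := tilde M') (φ.hom c) (semiBo φ l hl g t)).symm
  refine congrArg (fun z : Γ(Spec R', bo (φ.hom g)) => z • semiBo φ l hl g t) ?_
  exact ConcreteCategory.congr_hom (ΓSpec_res φ (bo g)) c

theorem semi_bijective {b : R} (hsurj : ∀ m' : M', ∃ (k : ℕ) (m : M), l m = φ.hom b ^ k • m')
    (hinj : ∀ m : M, l m = 0 → ∃ k : ℕ, b ^ k • m = 0)
    {V : (Spec R).Opens} (hV : V ≤ bo b) : Function.Bijective ((semi φ l hl).app V) := by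
  refine bijective_app_of_basic _ fun g hg => ?_
  show Function.Bijective (semiBo φ l hl g)
  obtain ⟨n, a, hna⟩ : ∃ (n : ℕ) (a : R), g ^ n = b * a := by
    obtain ⟨n, hn⟩ := (PrimeSpectrum.basicOpen_le_basicOpen_iff g b).1 (hg.trans hV)
    obtain ⟨a, ha⟩ := Ideal.mem_span_singleton.1 hn
    exact ⟨n, a, ha⟩
  refine ⟨fun t t' e => ?_, fun t' => ?_⟩
  · rw [← sub_eq_zero]
    have e0 : semiBo φ l hl g (t - t') = 0 := by rw [map_sub, e, sub_self]
    obtain ⟨k, m, hm⟩ := sec_bo_exists M g (t - t')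
    have h1 : sec M' (bo (φ.hom g)) (l m) = 0 := by
      rw [← semiBo_sec φ l hl, hm, semiBo_smul, e0, smul_zero]
    obtain ⟨j, hj⟩ := sec_bo_eq_zero M' (φ.hom g) (l m) h1
    rw [← map_pow, ← hl] at hj
    obtain ⟨i, hi⟩ := hinj _ hj
    have h2 : g ^ (n * i + j) • m = 0 := by
      rw [pow_add, pow_mul, hna, mul_pow, mul_comm (b ^ i), mul_assoc, mul_smul, mul_smul, hi, smul_zero]
    refine pow_smul_inj M g ((n * i + j) + k) ?_
    rw [smul_zero, pow_add, mul_smul, ← hm, ← map_smul, h2, map_zero]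
  · obtain ⟨j, m', hm'⟩ := sec_bo_exists M' (φ.hom g) t'
    obtain ⟨i, m, hm⟩ := hsurj m'
    obtain ⟨z, hz⟩ := ((Module.End.isUnit_iff _).1 (IsLocalizedModule.map_units
      (tilde.toOpen M (PrimeSpectrum.basicOpen g)).hom (⟨g ^ (n * i + j), _, rfl⟩ : Submonoid.powers g))).2
      (a ^ i • sec M (bo g) m)
    have hz' : g ^ (n * i + j) • (z : Γ(tilde M, bo g)) = a ^ i • sec M (bo g) m := hz
    refine ⟨z, pow_smul_inj M' (φ.hom g) (n * i + j) ?_⟩
    rw [← map_pow φ.hom g (n * i + j), ← semiBo_smul, hz', semiBo_smul, semiBo_sec, hm, map_smul, hm',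
      smul_smul, smul_smul, pow_add, pow_mul, hna, map_mul, ← map_pow φ.hom b i, ← map_pow φ.hom g j,
      ← map_mul, ← map_mul, ← map_mul, mul_pow]
    congr 2
    ring

end Groth.Agent.DirImgEss3
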