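import Groth.Agent.Lib.DirImgEss3.Basic
import Groth.Agent.Lib.RelProj11.Glue
import Groth.Agent.Lib.DirImg11.Colim

/-! Every quasi-coherent module over the direct image algebra of an affine morphism is a direct image
(EGA II 1.4.3). -/

set_option autoImplicit false
set_option linter.style.haveILetI false
set_option linter.unusedSectionVars false
set_option backward.isDefEq.respectTransparency false
set_option backward.isDefEq.respectTransparency.types false

universe u

open CategoryTheory CategoryTheory.Limits AlgebraicGeometry TopologicalSpace Opposite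

noncomputable section

namespace Groth.Agent.DirImgEss3

open Groth.Agent.M1 Groth.Agent.RelProj11

section Gen

variable {Y : Scheme.{u}} {R R' : CommRingCat.{u}} (j : Spec R ⟶ Y) (j' : Spec R' ⟶ Y) (φ : R ⟶ R')
  (e : Spec.map φ ≫ j = j')

/-- Change of chart. -/
def chg (T : (Spec R').Modules) :
    (Scheme.Modules.pushforward j).obj ((Scheme.Modules.pushforward (Spec.map φ)).obj T) ≅
      (Scheme.Modules.pushforward j').obj T :=
  (Scheme.Modules.pushforwardComp _ _).app T ≪≫ (Scheme.Modules.pushforwardCongr e).app T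

include e in
theorem chg_le (W : Y.Opens) : j' ⁻¹ᵁ W ≤ Spec.map φ ⁻¹ᵁ (j ⁻¹ᵁ W) := by
  rw [← Scheme.Hom.comp_preimage, e]

theorem chg_app (T : (Spec R').Modules) (W : Y.Opens) (t : Γ(T, Spec.map φ ⁻¹ᵁ (j ⁻¹ᵁ W))) :
    (chg j j' φ e T).hom.app W t = mres T (chg_le j j' φ e W) t := rfl

variable {N : ModuleCat.{u} R} {N' : ModuleCat.{u} R'} (l : N →+ N') (hl : ∀ (a : R) (m : N), l (a • m) = φ.hom a • l m)

/-- The map between charts. -/
def genMap : (Scheme.Modules.pushforward j).obj (tilde N) ⟶ (Scheme.Modules.pushforward j').obj (tilde N') :=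
  (Scheme.Modules.pushforward j).map (semi φ l hl) ≫ (chg j j' φ e _).hom

theorem genMap_sec (W : Y.Opens) (m : N) :
    (genMap j j' φ e l hl).app W (sec N (j ⁻¹ᵁ W) m) = sec N' (j' ⁻¹ᵁ W) (l m) := by
  refine ((congrArg (fun t : Γ(tilde N', Spec.map φ ⁻¹ᵁ (j ⁻¹ᵁ W)) => (chg j j' φ e (tilde N')).hom.app W t)
    (semi_sec φ l hl (j ⁻¹ᵁ W) m)).trans (chg_app j j' φ e (tilde N') W _)).trans ?_
  exact mres_sec N' (chg_le j j' φ e W) (l m)

theorem genMap_bijective {b : R} (hsurj : ∀ m' : N', ∃ (k : ℕ) (m : N), l m = φ.hom b ^ k • m')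
    (hinj : ∀ m : N, l m = 0 → ∃ k : ℕ, b ^ k • m = 0) {W : Y.Opens} (hW : j ⁻¹ᵁ W ≤ bo b) :
    Function.Bijective ((genMap j j' φ e l hl).app W) := by
  have e1 := semi_bijective φ l hl hsurj hinj hW
  have e2 : Function.Bijective ((chg j j' φ e (tilde N')).hom.app W) :=
    (ConcreteCategory.isIso_iff_bijective _).1 inferInstance
  exact e2.comp e1

/-- The section of the direct image given by an element. -/
def secP (N : ModuleCat.{u} R) (W : Y.Opens) (m : N) : Γ((Scheme.Modules.pushforward j).obj (tilde N), W) :=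
  sec N (j ⁻¹ᵁ W) m

theorem pushMap_app {A B : (Spec R).Modules} (a : A ⟶ B) (W : Y.Opens) (t : Γ(A, j ⁻¹ᵁ W)) :
    ((Scheme.Modules.pushforward j).map a).app W t = a.app (j ⁻¹ᵁ W) t := rfl

theorem key_top {A : (Spec R).Modules} {α₀ β₀ : tilde N ⟶ A} {V : (Spec R).Opens} (hV : V = ⊤)
    (h : ∀ m, α₀.app V (sec N V m) = β₀.app V (sec N V m)) : α₀ = β₀ := by
  subst hV
  exact app_eq_of_sec h

theorem gen_push_inj [IsOpenImmersion j] {A : (Spec R).Modules} {α₀ β₀ : tilde N ⟶ A} {W : Y.Opens}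
    (hW : j ⁻¹ᵁ W = ⊤)
    (h : ∀ m : N, ((Scheme.Modules.pushforward j).map α₀).app W (secP j N W m) =
      ((Scheme.Modules.pushforward j).map β₀).app W (secP j N W m)) : α₀ = β₀ :=
  key_top hW fun m => (pushMap_app j α₀ W _).symm.trans ((h m).trans (pushMap_app j β₀ W _))

theorem push_full [IsOpenImmersion j] : (Scheme.Modules.pushforward j).Full :=
  (Scheme.Modules.restrictAdjunction j).fullyFaithfulROfIsIsoCounit.full

theorem gen_hom_ext_aux [IsOpenImmersion j] {P : Y.Modules} {A : (Spec R).Modules}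
    (k : P ≅ (Scheme.Modules.pushforward j).obj A) {W : Y.Opens} (hW : j ⁻¹ᵁ W = ⊤)
    {α β : (Scheme.Modules.pushforward j).obj (tilde N) ⟶ P}
    (h : ∀ m : N, α.app W (secP j N W m) = β.app W (secP j N W m)) : α = β := by
  haveI := push_full j
  obtain ⟨α₀, hα⟩ := (Scheme.Modules.pushforward j).map_surjective (α ≫ k.hom)
  obtain ⟨β₀, hβ⟩ := (Scheme.Modules.pushforward j).map_surjective (β ≫ k.hom)
  have h0 : α₀ = β₀ := gen_push_inj j hW fun m => by
    rw [hα, hβ]
    exact congrArg (fun z => k.hom.app W z) (h m)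
  rw [h0, hβ] at hα
  exact (cancel_mono _).1 hα.symm

theorem gen_hom_ext [IsOpenImmersion j] {W : Y.Opens} (hW : j ⁻¹ᵁ W = ⊤)
    {α β : (Scheme.Modules.pushforward j).obj (tilde N) ⟶ (Scheme.Modules.pushforward j').obj (tilde N')}
    (e : Spec.map φ ≫ j = j')
    (h : ∀ m : N, α.app W (secP j N W m) = β.app W (secP j N W m)) : α = β :=
  gen_hom_ext_aux j (chg j j' φ e (tilde N')).symm hW h

theorem gen_supp (N : ModuleCat.{u} R) {W T : Y.Opens} (h : j ⁻¹ᵁ (W ⊓ T) = j ⁻¹ᵁ W) :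
    Function.Bijective (mres ((Scheme.Modules.pushforward j).obj (tilde N)) (inf_le_left : W ⊓ T ≤ W)) := by
  show Function.Bijective (mres (tilde N) (j.preimage_mono (inf_le_left : W ⊓ T ≤ W)))
  refine ⟨fun s s' hs => ?_, fun t => ⟨mres (tilde N) h.ge t, ?_⟩⟩
  · have e' := congrArg (mres (tilde N) h.ge) hs
    rwa [mres_mres, mres_mres, mres_id, mres_id] at e'
  · rw [mres_mres, mres_id]

theorem gen_sec_smul (N : ModuleCat.{u} R) (W : Y.Opens) (a : R) (c : Γ(Y, W)) (m : N)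
    (h : j.app W c = (Spec R).presheaf.map (j ⁻¹ᵁ W).leTop.op ((Scheme.ΓSpecIso R).inv a)) :
    secP j N W (a • m) = c • secP j N W m := by
  refine ((sec N (j ⁻¹ᵁ W)).map_smul a m).trans ?_
  refine (Scheme.Modules.smul_Spec_def (M := tilde N) a (sec N (j ⁻¹ᵁ W) m)).trans ?_
  exact congrArg (fun z : Γ(Spec R, j ⁻¹ᵁ W) => z • sec N (j ⁻¹ᵁ W) m) h.symm

theorem comp_app_apply {A B C : Y.Modules} (a : A ⟶ B) (b : B ⟶ C) (W : Y.Opens) (t : Γ(A, W)) :
    (a ≫ b).app W t = b.app W (a.app W t) := rfl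

end Gen

variable {X S : Scheme.{u}} (f : X ⟶ S) [IsAffineHom f] (M : AMod (RelSpec.QCAlg.directImage f))

/-- Sections over an open, as a module over the functions on the preimage. -/
abbrev MU (U : S.Opens) : ModuleCat.{u} Γ(X, f ⁻¹ᵁ U) :=
  @ModuleCat.of Γ(X, f ⁻¹ᵁ U) _ (M.val.obj (op U)) _ (M.val.obj (op U)).isModule

/-- Restriction. -/
def resl {U D : S.Opens} (h : D ≤ U) : MU f M U →+ MU f M D :=
  (M.val.map (homOfLE h).op).hom.toAddMonoidHom

/-- Restriction of functions. -/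
abbrev rho {U D : S.Opens} (h : D ≤ U) : Γ(X, f ⁻¹ᵁ U) ⟶ Γ(X, f ⁻¹ᵁ D) :=
  X.presheaf.map (homOfLE (f.preimage_mono h)).op

theorem resl_smul {U D : S.Opens} (h : D ≤ U) (a : Γ(X, f ⁻¹ᵁ U)) (m : MU f M U) :
    resl f M h (a • m) = (rho f h).hom a • resl f M h m :=
  M.val.map_smul (homOfLE h).op a m

theorem resl_resl {U D E : S.Opens} (h : D ≤ U) (h' : E ≤ D) (m : MU f M U) :
    resl f M h' (resl f M h m) = resl f M (h'.trans h) m :=
  (M.val.map_comp_apply (homOfLE h).op (homOfLE h').op m).symm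

theorem resl_self {U : S.Opens} (h : U ≤ U) (m : MU f M U) : resl f M h m = m :=
  (M.val.congr_map_apply (show (homOfLE h).op = 𝟙 (op U) from rfl) m).trans (by rw [M.val.map_id]; rfl)

variable {f} {U : S.Opens} (hU : IsAffineOpen U)

/-- The chart. -/
abbrev jc : Spec Γ(X, f ⁻¹ᵁ U) ⟶ X := (hU.preimage f).fromSpec

theorem range_jc (hU : IsAffineOpen U) {W : X.Opens} (h : f ⁻¹ᵁ U ≤ W) : jc (f := f) hU ⁻¹ᵁ W = ⊤ :=
  top_le_iff.1 (((hU.preimage f).fromSpec_preimage_self).ge.trans ((jc hU).preimage_mono h))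

theorem jc_inf (hU : IsAffineOpen U) (W : X.Opens) : jc (f := f) hU ⁻¹ᵁ (W ⊓ f ⁻¹ᵁ U) = jc hU ⁻¹ᵁ W := by
  rw [Scheme.Hom.preimage_inf, range_jc hU le_rfl, inf_top_eq]

variable {M}

variable (M) in
/-- The module over the preimage of an affine open, extended to `X`. -/
abbrev NU : X.Modules := (Scheme.Modules.pushforward (jc hU)).obj (tilde (MU f M U))

variable (M) in
/-- The section given by an element. -/
abbrev secX (W : X.Opens) (m : MU f M U) : Γ(NU M hU, W) := secP (jc hU) (MU f M U) W m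

theorem mres_secX {W W' : X.Opens} (h : W' ≤ W) (m : MU f M U) :
    mres (NU M hU) h (secX M hU W m) = secX M hU W' m :=
  mres_sec _ ((jc hU).preimage_mono h) m

variable {D : S.Opens} (hD : IsAffineOpen D)

theorem map_jc (h : D ≤ U) : Spec.map (rho f h) ≫ jc hU = jc hD :=
  (hU.preimage f).map_fromSpec (hD.preimage f) (homOfLE (f.preimage_mono h)).op

variable (M) in
/-- The restriction between charts. -/
def rmapX (h : D ≤ U) : NU M hU ⟶ NU M hD :=
  genMap (jc hU) (jc hD) (rho f h) (map_jc hU hD h) (resl f M h) (resl_smul f M h)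

theorem rmapX_secX (h : D ≤ U) (W : X.Opens) (m : MU f M U) :
    (rmapX M hU hD h).app W (secX M hU W m) = secX M hD W (resl f M h m) :=
  genMap_sec (jc hU) (jc hD) (rho f h) (map_jc hU hD h) (resl f M h) (resl_smul f M h) W m

theorem hom_ext_secX (h : D ≤ U) {φ ψ : NU M hU ⟶ NU M hD}
    (e : ∀ m : MU f M U, φ.app (f ⁻¹ᵁ U) (secX M hU _ m) = ψ.app (f ⁻¹ᵁ U) (secX M hU _ m)) : φ = ψ :=
  gen_hom_ext (jc hU) (jc hD) (rho f h) (range_jc hU le_rfl) (map_jc hU hD h) e

variable (hM : Coh.IsQCoh ((AMod.toOS (RelSpec.QCAlg.directImage f)).obj M))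

include hM in
theorem rmapX_bijective (h : IsBasic U D) {W : X.Opens} (hW : W ≤ f ⁻¹ᵁ D) :
    Function.Bijective ((rmapX M hU hD h.le).app W) := by
  haveI := hM
  have hle := h.le
  obtain ⟨r, rfl⟩ := h
  let M₀ := (AMod.toOS (RelSpec.QCAlg.directImage f)).obj M
  let b : Γ(X, f ⁻¹ᵁ U) := f.app U r
  have hb : f.app (S.basicOpen r) (ores hle r) = (rho f hle).hom b :=
    ConcreteCategory.congr_hom (f.naturality (homOfLE hle).op) r
  have hV : jc hU ⁻¹ᵁ W ≤ bo b := by
    refine ((jc hU).preimage_mono (hW.trans (Scheme.Hom.preimage_basicOpen f r).le)).trans ?_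
    exact ((hU.preimage f).fromSpec_preimage_basicOpen b).le
  refine genMap_bijective (jc hU) (jc hD) (rho f hle) (map_jc hU hD hle) (resl f M hle) (resl_smul f M hle)
    (fun m' => ?_) (fun m hm => ?_) hV
  · obtain ⟨k, t₀, ht⟩ := exists_pow_smul_eq_res_affine M₀ hU r (show Γ(M₀, S.basicOpen r) from m')
    refine ⟨k, t₀, ?_⟩
    rw [← hb]
    have ht' : resl f M hle t₀ = (f.app (S.basicOpen r) (ores hle r ^ k)) • (m' : MU f M (S.basicOpen r)) := ht
    rw [map_pow] at ht'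
    exact ht'
  · obtain ⟨k, hk⟩ := exists_pow_smul_eq_zero_affine M₀ hU r (show Γ(M₀, U) from m) hm
    refine ⟨k, ?_⟩
    have hk' : (f.app U (r ^ k)) • m = 0 := hk
    rwa [map_pow] at hk'

theorem rmapX_comp {U D E : S.Opens} (hU : IsAffineOpen U) (hD : IsAffineOpen D) (hE : IsAffineOpen E)
    (h : D ≤ U) (h' : E ≤ D) :
    rmapX M hU hD h ≫ rmapX M hD hE h' = rmapX M hU hE (h'.trans h) :=
  hom_ext_secX hU hE (h'.trans h) fun m =>
    (comp_app_apply _ _ _ _).trans ((congrArg _ (rmapX_secX hU hD h _ m)).trans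
      ((rmapX_secX hD hE h' _ _).trans ((congrArg _ (resl_resl f M h h' m)).trans (rmapX_secX hU hE _ _ m).symm)))

/-- The glueing data. -/
def data : GlueData f where
  N _ hU := NU M hU
  r hU hD h := rmapX M hU hD h.le
  supp {U} hU W := gen_supp (jc hU) (MU f M U) (jc_inf hU W)
  bij hU hD h _ hW := rmapX_bijective hU hD hM h hW
  comp hU hD hE h h' := rmapX_comp hU hD hE h.le h'.le

theorem secX_bijective {U : S.Opens} (hU : IsAffineOpen U) :
    Function.Bijective (secX M hU (f ⁻¹ᵁ U)) := by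
  have key : ∀ V : (Spec Γ(X, f ⁻¹ᵁ U)).Opens, V = ⊤ → Function.Bijective (sec (MU f M U) V) := by
    rintro _ rfl
    exact (ConcreteCategory.isIso_iff_bijective (tilde.toOpen (MU f M U) ⊤)).1 inferInstance
  exact key _ (range_jc hU le_rfl)

theorem secX_smul {U : S.Opens} (hU : IsAffineOpen U) (a : Γ(X, f ⁻¹ᵁ U)) (m : MU f M U) :
    secX M hU (f ⁻¹ᵁ U) (a • m) = a • secX M hU (f ⁻¹ᵁ U) m := by
  refine gen_sec_smul (jc hU) (MU f M U) (f ⁻¹ᵁ U) a a m ?_
  rw [(hU.preimage f).fromSpec_app_self, ConcreteCategory.comp_apply]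
  rfl

variable {V : S.Opens}

/-- A section of the glued module and a section of `M` correspond. -/
def Rel (s : Γ((data hM).glued, f ⁻¹ᵁ V)) (m : MU f M V) : Prop :=
  ∀ (D : S.Opens) (hD : IsAffineOpen D) (h : D ≤ V),
    ((data hM).gto D hD).app (f ⁻¹ᵁ D) (mres (data hM).glued (f.preimage_mono h) s) =
      secX M hD (f ⁻¹ᵁ D) (resl f M h m)

theorem rel_unique {s : Γ((data hM).glued, f ⁻¹ᵁ V)} {m m' : MU f M V} (h : Rel hM s m) (h' : Rel hM s m') :
    m = m' := by
  let I := {D : S.affineOpens // D.1 ≤ V}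
  refine modules_eq_of_locally_eq ((AMod.toOS (RelSpec.QCAlg.directImage f)).obj M) V (fun D : I => D.1.1)
    (fun D => D.2) (fun x hx => ?_) m m' fun D => (secX_bijective D.1.2).1 ((h _ D.1.2 D.2).symm.trans (h' _ D.1.2 D.2))
  obtain ⟨D, hD, hxD, hDV⟩ := Opens.isBasis_iff_nbhd.1 S.isBasis_affineOpens hx
  exact Opens.mem_iSup.2 ⟨⟨⟨D, hD⟩, hDV⟩, hxD⟩

theorem exists_rel (s : Γ((data hM).glued, f ⁻¹ᵁ V)) : ∃ m, Rel hM s m := by
  let I := {D : S.affineOpens // D.1 ≤ V}
  let M₀ := (AMod.toOS (RelSpec.QCAlg.directImage f)).obj M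
  choose md hmd using fun D : I => (secX_bijective (M := M) D.1.2).2
    (((data hM).gto D.1.1 D.1.2).app (f ⁻¹ᵁ D.1.1) (mres (data hM).glued (f.preimage_mono D.2) s))
  have step : ∀ (D E : I) (h : IsBasic D.1.1 E.1.1), resl f M h.le (md D) = md E := by
    intro D E h
    refine (secX_bijective E.1.2).1 (Eq.trans ?_ (hmd E).symm)
    let G := data hM
    have hz : secX M D.1.2 (f ⁻¹ᵁ E.1.1) (md D) =
        (G.gto D.1.1 D.1.2).app (f ⁻¹ᵁ E.1.1) (mres G.glued (f.preimage_mono E.2) s) :=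
      (mres_secX D.1.2 (f.preimage_mono h.le) (md D)).symm.trans ((congrArg _ (hmd D)).trans
        ((app_mres (G.gto D.1.1 D.1.2) (f.preimage_mono h.le) (mres G.glued (f.preimage_mono D.2) s)).symm.trans
          (congrArg _ (mres_mres G.glued (f.preimage_mono D.2) (f.preimage_mono h.le) s))))
    refine (rmapX_secX D.1.2 E.1.2 h.le (f ⁻¹ᵁ E.1.1) (md D)).symm.trans ((congrArg _ hz).trans ?_)
    exact (comp_app_apply (G.gto D.1.1 D.1.2) (G.r D.1.2 E.1.2 h) _ _).symm.trans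
      (congrArg (fun a : G.glued ⟶ G.N E.1.1 E.1.2 => a.app (f ⁻¹ᵁ E.1.1) (mres G.glued (f.preimage_mono E.2) s))
        (G.to_r D.1.2 E.1.2 h))
  obtain ⟨m, hm, -⟩ := TopCat.Sheaf.existsUnique_gluing' ⟨M₀.presheaf, M₀.isSheaf⟩ (fun D : I => D.1.1) V
    (fun D => homOfLE D.2) (fun x hx => by
      obtain ⟨D, hD, hxD, hDV⟩ := Opens.isBasis_iff_nbhd.1 S.isBasis_affineOpens hx
      exact Opens.mem_iSup.2 ⟨⟨⟨D, hD⟩, hDV⟩, hxD⟩) md (fun D D' => by
      let J := {E : I // IsBasic D.1.1 E.1.1 ∧ IsBasic D'.1.1 E.1.1}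
      refine modules_eq_of_locally_eq M₀ _ (fun E : J => E.1.1.1) (fun E => le_inf E.2.1.le E.2.2.le)
        (fun x hx => ?_) _ _ fun E => ?_
      · obtain ⟨E, hE, h1, h2, hxE⟩ := exists_common_basic D.1.2 D'.1.2 x hx
        exact Opens.mem_iSup.2 ⟨⟨⟨⟨E, hE⟩, h1.le.trans D.2⟩, h1, h2⟩, hxE⟩
      · show resl f M _ (resl f M _ (md D)) = resl f M _ (resl f M _ (md D'))
        rw [resl_resl, resl_resl]
        exact (step D E.1 E.2.1).trans (step D' E.1 E.2.2).symm)
  refine ⟨m, fun D hD h => ?_⟩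
  rw [show resl f M h m = md ⟨⟨D, hD⟩, h⟩ from hm ⟨⟨D, hD⟩, h⟩]
  exact (hmd ⟨⟨D, hD⟩, h⟩).symm

theorem rel_add {s t : Γ((data hM).glued, f ⁻¹ᵁ V)} {m n : MU f M V} (h : Rel hM s m) (h' : Rel hM t n) :
    Rel hM (s + t) (m + n) := fun D hD hDV => by
  rw [map_add, map_add, h D hD hDV, h' D hD hDV, map_add]
  exact ((sec (MU f M D) _).map_add _ _).symm

theorem rel_smul (a : Γ(X, f ⁻¹ᵁ V)) {s : Γ((data hM).glued, f ⁻¹ᵁ V)} {m : MU f M V} (h : Rel hM s m) :
    Rel hM (a • s) (a • m) := fun D hD hDV => by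
  rw [mres_smul, Scheme.Modules.Hom.app_smul, h D hD hDV, resl_smul, secX_smul]

theorem rel_res {V' : S.Opens} (h' : V' ≤ V) {s : Γ((data hM).glued, f ⁻¹ᵁ V)} {m : MU f M V} (h : Rel hM s m) :
    Rel hM (mres (data hM).glued (f.preimage_mono h') s) (resl f M h' m) := fun D hD hDV => by
  rw [mres_mres, resl_resl]
  exact h D hD (hDV.trans h')

/-- The comparison with `M`. -/
def toM : (AMod.dirImg f).obj (data hM).glued ⟶ M :=
  ⟨PresheafOfModules.homMk
    { app := fun V => AddCommGrpCat.ofHom (AddMonoidHom.mk'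
        (fun s : Γ((data hM).glued, f ⁻¹ᵁ V.unop) => (exists_rel hM s).choose)
        fun a b => rel_unique hM (exists_rel hM (a + b)).choose_spec
          (rel_add hM (exists_rel hM a).choose_spec (exists_rel hM b).choose_spec))
      naturality := fun V V' g => by
        ext s
        exact rel_unique hM (exists_rel hM _).choose_spec
          (rel_res hM (leOfHom g.unop) (exists_rel hM (V := V.unop) s).choose_spec) }
    fun V a s => rel_unique hM (exists_rel hM _).choose_spec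
      (rel_smul hM a (exists_rel hM (V := V.unop) s).choose_spec)⟩

theorem toM_bijective {U : S.Opens} (hU : IsAffineOpen U) : Function.Bijective ((toM hM).val.app (op U)) := by
  have key : ∀ s : Γ((data hM).glued, f ⁻¹ᵁ U),
      secX M hU (f ⁻¹ᵁ U) ((toM hM).val.app (op U) s) = ((data hM).gto U hU).app (f ⁻¹ᵁ U) s := fun s => by
    have := (exists_rel hM s).choose_spec U hU le_rfl
    rw [mres_id, resl_self] at this
    exact this.symm
  refine (Function.Bijective.of_comp_iff' (secX_bijective hU) _).1 ?_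
  have e : secX M hU (f ⁻¹ᵁ U) ∘ (toM hM).val.app (op U) = ⇑(((data hM).gto U hU).app (f ⁻¹ᵁ U)) := funext key
  exact e ▸ ⟨(data hM).to_injective hU le_rfl, (data hM).exists_to_eq hU le_rfl⟩

theorem isQCoh_glued : Coh.IsQCoh (data hM).glued := by
  refine isQCoh_of_openImmersion_cover (j := fun U : S.affineOpens => jc (f := f) U.2) (fun x => ?_) fun U => ?_
  · obtain ⟨U, hU, hx⟩ := DirImg11.exists_affine_preimage f x
    exact ⟨⟨U, hU⟩, by rw [(hU.preimage f).range_fromSpec]; exact hx⟩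
  · let g := (Scheme.Modules.restrictFunctor (jc (f := f) U.2)).map ((data hM).gto U.1 U.2)
    haveI : IsIso g := Scheme.Modules.Hom.isIso_iff_isIso_app.2 fun V => by
      refine (ConcreteCategory.isIso_iff_bijective _).2 ?_
      have hV : jc (f := f) U.2 ''ᵁ V ≤ f ⁻¹ᵁ U.1 :=
        ((jc (f := f) U.2).image_le_opensRange V).trans (U.2.preimage f).opensRange_fromSpec.le
      exact ⟨(data hM).to_injective U.2 hV, (data hM).exists_to_eq U.2 hV⟩
    let e := asIso g ≪≫ (asIso (Scheme.Modules.restrictAdjunction (jc (f := f) U.2)).counit).app (tilde (MU f M U.1))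
    exact isQCoh_of_isIso e.symm (inferInstanceAs ((tilde (MU f M U.1)).IsQuasicoherent))

theorem exists_iso (hM : Coh.IsQCoh ((AMod.toOS (RelSpec.QCAlg.directImage f)).obj M)) :
    ∃ F : X.Modules, Coh.IsQCoh F ∧ Nonempty ((AMod.dirImg f).obj F ≅ M) := by
  haveI := DirImg11.isIso_of_bijective_affine f (toM hM) fun U hU => toM_bijective hM hU
  exact ⟨_, isQCoh_glued hM, ⟨asIso (toM hM)⟩⟩

end Groth.Agent.DirImgEss3
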